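import Cfsg.Agent.Chev.G2Odd.RootSL2
import Cfsg.Agent.Chev.CoxCheck
import Cfsg.Agent.Chev.VerifyG2
import Cfsg.Agent.Linear.Card

/-!
The two commuting root `SL₂` of `G₂(q)`, `q` odd, and their central involution.
-/

set_option autoImplicit false

universe u

namespace Cfsg.Agent.Chev.G2Odd

open Cfsg.Lie
open scoped Matrix MatrixGroups

variable {F : Type u} [Field F]

/-- The certificate used throughout. -/
noncomputable abbrev cG : Cert.{u} chevG2 := certG2

theorem pos7 : chevG2.IsPosRoot 7 := by decide +kernel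
theorem pos11 : chevG2.IsPosRoot 11 := by decide +kernel
theorem neg7 : chevG2.neg 7 = 4 := by decide +kernel
theorem neg11 : chevG2.neg 11 = 0 := by decide +kernel
theorem simple0 : chevG2.simple 0 = 7 := by decide +kernel
theorem simple1 : chevG2.simple 1 = 6 := by decide +kernel

theorem lt_of (r : ℕ) (h : r < 12 := by norm_num) : r < chevG2.nroots := h

/-- The `SL₂` of the short fundamental root. -/
noncomputable def phiS : Matrix.SpecialLinearGroup (Fin 2) F →* GL chevG2.Idx F :=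
  (exists_rootHom (F := F) cG (lt_of 7)).choose

/-- The `SL₂` of the highest root. -/
noncomputable def phiL : Matrix.SpecialLinearGroup (Fin 2) F →* GL chevG2.Idx F :=
  (exists_rootHom (F := F) cG (lt_of 11)).choose

theorem hS : RootHom cG 7 (phiS (F := F)) := (exists_rootHom (F := F) cG (lt_of 7)).choose_spec

theorem hL : RootHom cG 11 (phiL (F := F)) := (exists_rootHom (F := F) cG (lt_of 11)).choose_spec

theorem commute_SL (a b : Matrix.SpecialLinearGroup (Fin 2) F) : Commute (phiS a) (phiL b) :=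
  hS.commute hL (by decide +kernel) a b

/-- The product map on `SL₂ × SL₂`. -/
noncomputable def Phi :
    Matrix.SpecialLinearGroup (Fin 2) F × Matrix.SpecialLinearGroup (Fin 2) F →* GL chevG2.Idx F :=
  MonoidHom.noncommCoprod phiS phiL commute_SL

theorem Phi_apply (a b : Matrix.SpecialLinearGroup (Fin 2) F) : Phi (a, b) = phiS a * phiL b := rfl

theorem Phi_left (a : Matrix.SpecialLinearGroup (Fin 2) F) : Phi (a, 1) = phiS a := by
  rw [Phi_apply, map_one, mul_one]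

theorem Phi_right (b : Matrix.SpecialLinearGroup (Fin 2) F) : Phi (1, b) = phiL b := by
  rw [Phi_apply, map_one, one_mul]

/-- The product of the two `SL₂`. -/
noncomputable def ySub (F : Type u) [Field F] : Subgroup (GL chevG2.Idx F) := (Phi (F := F)).range

theorem ySub_eq : ySub F = (phiS (F := F)).range ⊔ (phiL (F := F)).range :=
  MonoidHom.noncommCoprod_range _ _ _

theorem phiS_mem (a : Matrix.SpecialLinearGroup (Fin 2) F) : phiS a ∈ ySub F := ⟨(a, 1), Phi_left a⟩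

theorem phiL_mem (a : Matrix.SpecialLinearGroup (Fin 2) F) : phiL a ∈ ySub F := ⟨(1, a), Phi_right a⟩

theorem ySub_le_group : ySub F ≤ chevG2.group F := by
  rw [ySub_eq]
  exact sup_le (by rintro x ⟨a, rfl⟩; exact hS.mem_group a) (by rintro x ⟨a, rfl⟩; exact hL.mem_group a)

theorem phiS_inj : Function.Injective (phiS (F := F)) :=
  hS.injective pos7 ⟨3, lt_of 3, by decide +kernel⟩

theorem phiL_inj : Function.Injective (phiL (F := F)) :=
  hL.injective pos11 ⟨8, lt_of 8, by decide +kernel⟩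

/-- The central involution. -/
noncomputable def tz (F : Type u) [Field F] : GL chevG2.Idx F := phiS sl2Z

theorem tz_eq_hu : tz F = cG.hu 7 (-1) := hS.map_Z

theorem neg_one_zpow_congr {m n : ℤ} (h : Even m ↔ Even n) : (-1 : F) ^ m = (-1) ^ n := by
  by_cases hm : Even m
  · rw [Even.neg_one_zpow hm, Even.neg_one_zpow (h.mp hm)]
  · rw [Odd.neg_one_zpow (Int.not_even_iff_odd.mp hm), Odd.neg_one_zpow (Int.not_even_iff_odd.mp (fun hn => hm (h.mpr hn)))]

/-- Two coroots with the same parities give the same element at `-1`. -/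
theorem hu_neg_one_congr {r r' : ℕ} (hr : r < chevG2.nroots) (hr' : r' < chevG2.nroots)
    (h : ∀ s < chevG2.nroots, Even (pairInt chevG2 r s) ↔ Even (pairInt chevG2 r' s)) :
    cG.hu r (-1 : F) = cG.hu r' (-1) := by
  apply Units.ext
  rw [Cert.coe_hu, Cert.coe_hu, cG.hMat_eq hr (neg_ne_zero.mpr one_ne_zero),
    cG.hMat_eq hr' (neg_ne_zero.mpr one_ne_zero)]
  exact dMat_congr fun s hs => neg_one_zpow_congr (h s hs)

theorem tz_eq_L : tz F = phiL sl2Z := by
  rw [tz_eq_hu, hL.map_Z]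
  exact hu_neg_one_congr (lt_of 7) (lt_of 11) (by decide +kernel)

theorem tz_mem : tz F ∈ ySub F := phiS_mem _

theorem tz_comm {x : GL chevG2.Idx F} (hx : x ∈ ySub F) : tz F * x = x * tz F := by
  obtain ⟨⟨a, b⟩, rfl⟩ := hx
  rw [tz, Phi_apply, ← mul_assoc, ← map_mul, sl2Z_comm, map_mul, mul_assoc, (commute_SL sl2Z b).eq,
    ← mul_assoc]

theorem tz_sq : tz F * tz F = 1 := by rw [tz, ← map_mul, sl2Z_sq, map_one]

theorem tz_ne_one (h2 : (2 : F) ≠ 0) : tz F ≠ 1 := fun e =>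
  sl2Z_ne_one h2 (phiS_inj (by rw [map_one]; exact e))

/-- The kernel of the product map. -/
theorem Phi_eq_one {a b : Matrix.SpecialLinearGroup (Fin 2) F} :
    Phi (a, b) = 1 ↔ (a = 1 ∧ b = 1) ∨ (a = sl2Z ∧ b = sl2Z) := by
  constructor
  · intro h
    rw [Phi_apply] at h
    have hb : phiS a = phiL b⁻¹ := by rw [map_inv]; exact mul_eq_one_iff_eq_inv.mp h
    have hca : ∀ c, a * c = c * a := fun c => phiS_inj (by
      rw [map_mul, map_mul, hb]; exact (commute_SL c b⁻¹).eq.symm)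
    have key : ∀ {a b : Matrix.SpecialLinearGroup (Fin 2) F}, a = 1 ∨ a = sl2Z →
        phiS a * phiL b = 1 → (a = 1 ∧ b = 1) ∨ (a = sl2Z ∧ b = sl2Z) := by
      rintro a b (rfl | rfl) e
      · rw [map_one, one_mul] at e
        exact Or.inl ⟨rfl, phiL_inj (by rw [e, map_one])⟩
      · refine Or.inr ⟨rfl, phiL_inj ?_⟩
        rw [← tz_eq_L]
        have : (tz F)⁻¹ = phiL b := inv_eq_of_mul_eq_one_right e
        rw [← this, inv_eq_of_mul_eq_one_right tz_sq]
    exact key (eq_one_or_Z_of_comm (hca _) (hca _)) h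
  · rintro (⟨rfl, rfl⟩ | ⟨rfl, rfl⟩)
    · exact map_one Phi
    · rw [Phi_apply, ← tz_eq_L, ← tz, tz_sq]

variable [Fintype F]

theorem two_ne_zero_of_odd (hodd : Odd (Fintype.card F)) : (2 : F) ≠ 0 := fun e => by
  have h := FiniteField.even_card_of_char_two (ringChar.eq_iff.mpr ((CharTwo.of_one_ne_zero_of_two_eq_zero one_ne_zero e) : CharP F 2))
  rw [Nat.odd_iff] at hodd
  omega

theorem card_ker_Phi (h2 : (2 : F) ≠ 0) : Nat.card (Phi (F := F)).ker = 2 := by
  rw [Nat.card_eq_two_iff]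
  refine ⟨1, ⟨(sl2Z, sl2Z), MonoidHom.mem_ker.mpr (Phi_eq_one.mpr (Or.inr ⟨rfl, rfl⟩))⟩, ?_, ?_⟩
  · intro e
    exact sl2Z_ne_one h2 (congrArg (fun x => x.1.1) e).symm
  · rw [Set.eq_univ_iff_forall]
    rintro ⟨⟨a, b⟩, hab⟩
    rcases Phi_eq_one.mp (MonoidHom.mem_ker.mp hab) with ⟨rfl, rfl⟩ | ⟨rfl, rfl⟩
    · exact Or.inl rfl
    · exact Or.inr rfl

theorem two_mul_card_ySub (h2 : (2 : F) ≠ 0) :
    2 * Nat.card (ySub F) = (Fintype.card F * (Fintype.card F ^ 2 - 1)) ^ 2 := by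
  have h := (Phi (F := F)).ker.card_mul_index
  rw [Subgroup.index_ker, card_ker_Phi h2, Nat.card_prod, Linear.card_SL_two] at h
  rw [sq (_ * _)]
  exact h

/-! ### `H` inside and outside `Y` -/

omit [Fintype F] in
theorem hu11_eq {a : F} (ha : a ≠ 0) : cG.hu 11 a = cG.hu 7 a * cG.hu 6 (a ^ 2) := by
  apply Units.ext
  rw [Units.val_mul, Cert.coe_hu, Cert.coe_hu, Cert.coe_hu, cG.hMat_eq (lt_of 11) ha,
    cG.hMat_eq (lt_of 7) ha, cG.hMat_eq (lt_of 6) (pow_ne_zero 2 ha), dMat_mul]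
  refine dMat_congr fun s hs => ?_
  have h : ∀ s < chevG2.nroots, pairInt chevG2 11 s = pairInt chevG2 7 s + 2 * pairInt chevG2 6 s := by
    decide +kernel
  simp only [pairChar, Pi.mul_apply]
  rw [h s hs, zpow_add₀ ha, zpow_mul, zpow_ofNat]

omit [Fintype F] in
theorem hu7_mem {a : F} (ha : a ≠ 0) : cG.hu 7 a ∈ ySub F := hS.map_D a ha ▸ phiS_mem _

omit [Fintype F] in
theorem hu6_sq_mem {a : F} (ha : a ≠ 0) : cG.hu 6 (a ^ 2) ∈ ySub F := by
  have e : cG.hu 6 (a ^ 2) = (cG.hu 7 a)⁻¹ * cG.hu 11 a := by rw [hu11_eq ha, inv_mul_cancel_left]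
  rw [e]
  exact mul_mem (inv_mem (hu7_mem ha)) (hL.map_D a ha ▸ phiL_mem _)

/-- An element of `H` outside `Y`. -/
noncomputable def h0 (c : F) : GL chevG2.Idx F := cG.hu 6 c

omit [Fintype F] in
theorem h0_not_mem {c : F} (hc : c ≠ 0) (hns : ¬ IsSquare c) : h0 c ∉ ySub F := by
  rintro ⟨⟨a, b⟩, e⟩
  rw [Phi_apply] at e
  have hp : pairInt chevG2 6 7 = -1 := by decide +kernel
  have h1 := hu_conj cG (lt_of 6) (lt_of 7) hc (1 : F)
  rw [← h0, ← e, ← hS.U 1, hp, zpow_neg_one, mul_one, ← hS.U c⁻¹] at h1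
  have h2 : phiS (a * sl2U 1 * a⁻¹) = phiS (sl2U c⁻¹) := by
    rw [← h1, map_mul, map_mul, map_inv, mul_inv_rev]
    have := (commute_SL (sl2U (1 : F)) b).eq
    simp only [mul_assoc]
    rw [← mul_assoc (phiS (sl2U 1)) (phiL b)⁻¹, show phiS (sl2U 1) * (phiL b)⁻¹ =
      (phiL b)⁻¹ * phiS (sl2U 1) from (commute_SL (sl2U (1 : F)) b).inv_right.eq, mul_assoc,
      mul_inv_cancel_left]
  have h3 := mul_inv_eq_iff_eq_mul.mp (phiS_inj h2)
  have e01 := congrArg (fun x : Matrix.SpecialLinearGroup (Fin 2) F => x.1 0 1) h3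
  have e11 := congrArg (fun x : Matrix.SpecialLinearGroup (Fin 2) F => x.1 1 1) h3
  simp [Matrix.SpecialLinearGroup.coe_mul, Matrix.mul_apply, Fin.sum_univ_two] at e01 e11
  have hd := sl2_det a
  rw [e11, mul_zero, sub_zero] at hd
  apply hns
  have ha0 : a 0 0 ≠ 0 := left_ne_zero_of_mul_eq_one hd
  have hsq : a 0 0 ^ 2 = c⁻¹ := by linear_combination (a 0 0) * e01 + c⁻¹ * hd
  refine ⟨(a 0 0)⁻¹, ?_⟩
  rw [← mul_inv, ← sq, hsq, inv_inv]

end Cfsg.Agent.Chev.G2Odd
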