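import Cfsg.Agent.Chev.G2Odd.SL2Facts
import Cfsg.Agent.Chev.BN
import Cfsg.Agent.Chev.Bruhat

/-!
A root homomorphism from `SL₂`: images of the monomial elements, injectivity.
-/

set_option autoImplicit false

universe u

namespace Cfsg.Agent.Chev.G2Odd

open Cfsg.Lie
open scoped Matrix MatrixGroups

variable {D : ChevalleyDatum} {F : Type u} [Field F]


/-- `φ` is the homomorphism of the root `r`. -/
structure RootHom (C : Cert.{u} D) (r : ℕ) (φ : Matrix.SpecialLinearGroup (Fin 2) F →* GL D.Idx F) : Prop where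
  lt : r < D.nroots
  U : ∀ t, φ (sl2U t) = C.xu r t
  L : ∀ t, φ (sl2L t) = C.xu (D.neg r) t

theorem xu_left_inj (C : Cert.{u} D) {r : ℕ} (hr : r < D.nroots) {a b : F}
    (h : C.xu r a = C.xu r b) : a = b := by
  have : C.xu r (a - b) = 1 := by rw [sub_eq_add_neg, ← C.xu_add, h, ← C.xu_inv, mul_inv_cancel]
  exact sub_eq_zero.mp (C.xu_eq_one hr this)

theorem hu_conj (C : Cert.{u} D) {r s : ℕ} (hr : r < D.nroots) (hs : s < D.nroots) {c : F} (hc : c ≠ 0)
    (t : F) : C.hu r c * C.xu s t * (C.hu r c)⁻¹ = C.xu s (c ^ pairInt D r s * t) := by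
  rw [C.hu_conj_xu hr hs hc, mul_inv_cancel_right, pairChar]

theorem exists_rootHom (C : Cert.{u} D) {r : ℕ} (hr : r < D.nroots) :
    ∃ φ : Matrix.SpecialLinearGroup (Fin 2) F →* GL D.Idx F, RootHom C r φ := by
  obtain ⟨φ, hU, hL⟩ := C.exists_sl2Hom (F := F) hr
  exact ⟨φ, hr, hU, hL⟩

namespace RootHom

variable {C : Cert.{u} D} {r : ℕ} {φ : Matrix.SpecialLinearGroup (Fin 2) F →* GL D.Idx F} (h : RootHom C r φ)
include h

theorem map_W : φ sl2W = C.nu r 1 := by
  rw [sl2W_eq, map_mul, map_mul, h.U, h.L, C.nu_eq, inv_one]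

theorem map_D (a : F) (ha : a ≠ 0) : φ (sl2D a ha) = C.hu r a := by
  rw [sl2D_eq, C.hu_eq, C.nu_eq, C.nu_eq]
  simp only [map_mul, h.U, h.L, inv_neg, inv_one, _root_.neg_neg]

theorem map_Z : φ sl2Z = C.hu r (-1) := h.map_D _ _

theorem ext {ψ : Matrix.SpecialLinearGroup (Fin 2) F →* GL D.Idx F} (hU : ∀ t, ψ (sl2U t) = φ (sl2U t)) (hL : ∀ t, ψ (sl2L t) = φ (sl2L t))
    (g : Matrix.SpecialLinearGroup (Fin 2) F) : ψ g = φ g := by
  refine sl2_induction (fun g => ψ g = φ g) hU ?_ (fun a b ha hb => by rw [map_mul, map_mul, ha, hb]) g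
  rw [sl2W_eq]; simp only [map_mul, hU, hL]

theorem mem_group (g : Matrix.SpecialLinearGroup (Fin 2) F) : φ g ∈ D.group F := by
  refine sl2_induction (fun g => φ g ∈ D.group F) (fun t => h.U t ▸ C.xu_mem_group r t) ?_
    (fun a b ha hb => by rw [map_mul]; exact mul_mem ha hb) g
  rw [h.map_W, C.nu_eq]
  exact mul_mem (mul_mem (C.xu_mem_group _ _) (C.xu_mem_group _ _)) (C.xu_mem_group _ _)

/-- A root homomorphism is injective if some root pairs to one with the coroot. -/
theorem injective (hp : D.IsPosRoot r) (hs : ∃ s < D.nroots, pairInt D r s = 1) :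
    Function.Injective φ := by
  rw [injective_iff_map_eq_one]
  intro g hg
  have hd := sl2_det g
  by_cases hc : g 1 0 = 0
  · rw [hc, mul_zero, sub_zero] at hd
    have ha : g 0 0 ≠ 0 := left_ne_zero_of_mul_eq_one hd
    have hdd : g 1 1 = (g 0 0)⁻¹ := eq_inv_of_mul_eq_one_right hd
    have e : g = sl2D (g 0 0) ha * sl2U (g 0 1 / g 0 0) := by
      refine sl2_ext _ _ ?_ ?_ ?_ ?_ <;> rw [sl2_mul_apply] <;>
        simp [hc, hdd] <;> field_simp
    rw [e, map_mul, h.map_D, h.U] at hg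
    have h1 : C.xu r (g 0 1 / g 0 0) ∈ (⊥ : Subgroup (GL D.Idx F)) := by
      rw [← C.posUnipotent_inf_diagonal]
      refine Subgroup.mem_inf.mpr ⟨C.xu_mem_pos hp _, ?_⟩
      rw [eq_inv_of_mul_eq_one_right hg]
      exact inv_mem (C.hu_simple_mem_diagonal h.lt ha)
    have hb := C.xu_eq_one h.lt (Subgroup.mem_bot.mp h1)
    rw [hb, C.xu_zero, mul_one] at hg
    obtain ⟨s, hsl, hs1⟩ := hs
    have e2 := hu_conj C h.lt hsl ha (1 : F)
    rw [hg, hs1, one_mul, inv_one, mul_one, zpow_one, mul_one] at e2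
    have ha1 : g 0 0 = 1 := (xu_left_inj C hsl e2).symm
    rw [e]
    have hb0 : g 0 1 / g 0 0 = 0 := hb
    refine sl2_ext _ _ ?_ ?_ ?_ ?_ <;> rw [sl2_mul_apply] <;> simp [ha1, hb0]
    simpa [ha1] using hb0
  · exfalso
    have e : g = sl2U ((g 0 0 - 1) / g 1 0) * sl2L (g 1 0) * sl2U ((g 1 1 - 1) / g 1 0) := by
      refine sl2_ext _ _ ?_ ?_ ?_ ?_ <;>
        simp [Matrix.SpecialLinearGroup.coe_mul, Matrix.mul_apply, Fin.sum_univ_two] <;>
        field_simp <;>
        first | ring1 | linear_combination hd | linear_combination (-1 : F) * hd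
    rw [e, map_mul, map_mul, h.U, h.L, h.U, mul_eq_one_iff_eq_inv, ← eq_inv_mul_iff_mul_eq] at hg
    have h1 : C.xu (D.neg r) (g 1 0) ∈ (⊥ : Subgroup (GL D.Idx F)) := by
      rw [← C.borel_inf_neg]
      refine Subgroup.mem_inf.mpr ⟨?_, C.xu_mem_neg (C.negRoot_neg hp) _⟩
      rw [hg]
      exact C.pos_le_borel (mul_mem (inv_mem (C.xu_mem_pos hp _)) (inv_mem (C.xu_mem_pos hp _)))
    exact hc (C.xu_eq_one (C.neg_lt r h.lt) (Subgroup.mem_bot.mp h1))

/-- Two root homomorphisms of strongly orthogonal roots commute. -/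
theorem commute {r' : ℕ} {ψ : Matrix.SpecialLinearGroup (Fin 2) F →* GL D.Idx F} (h' : RootHom C r' ψ)
    (hor : ∀ x ∈ [r, D.neg r], ∀ y ∈ [r', D.neg r'], y ≠ x ∧ y ≠ D.neg x ∧ D.commTerms x y = [])
    (a b : Matrix.SpecialLinearGroup (Fin 2) F) : Commute (φ a) (ψ b) := by
  have key : ∀ x ∈ [r, D.neg r], ∀ y ∈ [r', D.neg r'], ∀ t v : F, Commute (C.xu x t) (C.xu y v) := by
    intro x hx y hy t v
    obtain ⟨h1, h2, h3⟩ := hor x hx y hy
    have hxl : x < D.nroots := by
      simp only [List.mem_cons, List.not_mem_nil, or_false] at hx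
      rcases hx with rfl | rfl
      exacts [h.lt, C.neg_lt r h.lt]
    have hyl : y < D.nroots := by
      simp only [List.mem_cons, List.not_mem_nil, or_false] at hy
      rcases hy with rfl | rfl
      exacts [h'.lt, C.neg_lt r' h'.lt]
    have := C.xu_comm hxl hyl h1 h2 t v
    rw [show D.commWord F x y t v = [] by simp [ChevalleyDatum.commWord, h3],
      show C.wu ([] : List (ℕ × F)) = 1 from rfl, mul_one] at this
    exact this.symm
  have inner : ∀ x ∈ [r, D.neg r], ∀ (t : F) (b : Matrix.SpecialLinearGroup (Fin 2) F), Commute (C.xu x t) (ψ b) := by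
    intro x hx t b
    refine sl2_induction (fun b => Commute (C.xu x t) (ψ b)) (fun v => ?_) ?_
      (fun p q hp hq => by rw [map_mul]; exact hp.mul_right hq) b
    · rw [h'.U]; exact key x hx r' List.mem_cons_self t v
    · rw [sl2W_eq, map_mul, map_mul, h'.U, h'.L]
      exact ((key x hx r' List.mem_cons_self t _).mul_right (key x hx (D.neg r') (by simp) t _)).mul_right
        (key x hx r' List.mem_cons_self t _)
  refine sl2_induction (fun a => Commute (φ a) (ψ b)) (fun t => ?_) ?_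
    (fun p q hp hq => by rw [map_mul]; exact hp.mul_left hq) a
  · rw [h.U]; exact inner r List.mem_cons_self t b
  · rw [sl2W_eq, map_mul, map_mul, h.U, h.L]
    exact ((inner r List.mem_cons_self _ b).mul_left (inner (D.neg r) (by simp) _ b)).mul_left
      (inner r List.mem_cons_self _ b)

end RootHom

end Cfsg.Agent.Chev.G2Odd
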