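import Cfsg.Agent.Chev.SL2
import Mathlib.FieldTheory.Finite.Basic

/-!
Elementary facts on `SL₂` in odd characteristic used for the involutions of `G₂(q)`.
-/

set_option autoImplicit false

universe u

namespace Cfsg.Agent.Chev.G2Odd

variable {F : Type u} [Field F]

local notation "SL" => Matrix.SpecialLinearGroup (Fin 2) F

/-- The diagonal element `diag(a, a⁻¹)`. -/
def sl2D (a : F) (ha : a ≠ 0) : SL :=
  ⟨!![a, 0; 0, a⁻¹], by simp [Matrix.det_fin_two, ha]⟩

/-- The central element `-1`. -/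
def sl2Z : SL := sl2D (-1) (neg_ne_zero.mpr one_ne_zero)

@[simp] theorem coe_sl2D (a : F) (ha : a ≠ 0) :
    (sl2D a ha : Matrix (Fin 2) (Fin 2) F) = !![a, 0; 0, a⁻¹] := rfl

@[simp] theorem coe_sl2Z : ((sl2Z : SL) : Matrix (Fin 2) (Fin 2) F) = !![-1, 0; 0, -1] := by
  simp [sl2Z]

theorem sl2D_eq (a : F) (ha : a ≠ 0) :
    sl2D a ha = sl2U a * sl2L (-a⁻¹) * sl2U a * (sl2U (-1) * sl2L 1 * sl2U (-1)) := by
  apply Subtype.ext
  ext i j
  fin_cases i <;> fin_cases j <;>
    simp [Matrix.SpecialLinearGroup.coe_mul, Matrix.mul_apply, Fin.sum_univ_two, ha]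

theorem sl2W_eq : (sl2W : SL) = sl2U 1 * sl2L (-1) * sl2U 1 := by
  apply Subtype.ext
  ext i j
  fin_cases i <;> fin_cases j <;>
    simp [Matrix.SpecialLinearGroup.coe_mul, Matrix.mul_apply, Fin.sum_univ_two]

theorem sl2Z_mul_apply (g : SL) (i j : Fin 2) : (sl2Z * g : SL) i j = - g i j := by
  rw [sl2_mul_apply]
  fin_cases i <;> simp

theorem sl2Z_comm (g : SL) : sl2Z * g = g * sl2Z := by
  apply Subtype.ext
  ext i j
  fin_cases i <;> fin_cases j <;>
    simp [Matrix.SpecialLinearGroup.coe_mul, Matrix.mul_apply, Fin.sum_univ_two]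

theorem sl2Z_sq : (sl2Z : SL) * sl2Z = 1 := by
  apply Subtype.ext
  ext i j
  fin_cases i <;> fin_cases j <;>
    simp [Matrix.SpecialLinearGroup.coe_mul, Matrix.mul_apply, Fin.sum_univ_two]

theorem sl2W_sq : (sl2W : SL) * sl2W = sl2Z := by
  apply Subtype.ext
  ext i j
  fin_cases i <;> fin_cases j <;>
    simp [Matrix.SpecialLinearGroup.coe_mul, Matrix.mul_apply, Fin.sum_univ_two]

theorem sl2Z_ne_one (h2 : (2 : F) ≠ 0) : (sl2Z : SL) ≠ 1 := by
  intro e
  have := congrArg (fun x : SL => x.1 0 0) e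
  simp at this
  exact h2 (by linear_combination -this)

theorem sl2W_ne (h2 : (2 : F) ≠ 0) : (sl2W : SL) ≠ 1 ∧ (sl2W : SL) ≠ sl2Z := by
  constructor <;> intro e <;> have := congrArg (fun x : SL => x.1 0 1) e <;>
    simp at this

/-- Only `1` and `-1` commute with both unitriangular elements. -/
theorem eq_one_or_Z_of_comm {g : SL} (hU : g * sl2U 1 = sl2U 1 * g) (hL : g * sl2L 1 = sl2L 1 * g) :
    g = 1 ∨ g = sl2Z := by
  have e1 := congrArg (fun x : SL => x.1 0 0) hU
  have e2 := congrArg (fun x : SL => x.1 0 1) hU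
  have e3 := congrArg (fun x : SL => x.1 0 0) hL
  simp [Matrix.SpecialLinearGroup.coe_mul, Matrix.mul_apply, Fin.sum_univ_two] at e1 e2 e3
  have hd := sl2_det g
  rw [e1, mul_zero, sub_zero] at hd
  have had : g 0 0 = g 1 1 := by linear_combination e2
  rw [← had] at hd
  rcases mul_self_eq_one_iff.mp hd with h | h
  · left
    refine sl2_ext _ _ ?_ ?_ ?_ ?_ <;> simp [h, ← had, e1, e3]
  · right
    refine sl2_ext _ _ ?_ ?_ ?_ ?_ <;> simp [h, ← had, e1, e3]

theorem eq_one_or_Z_of_sq (h2 : (2 : F) ≠ 0) {g : SL} (h : g * g = 1) : g = 1 ∨ g = sl2Z := by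
  have e00 := congrArg (fun x : SL => x.1 0 0) h
  have e01 := congrArg (fun x : SL => x.1 0 1) h
  have e10 := congrArg (fun x : SL => x.1 1 0) h
  have e11 := congrArg (fun x : SL => x.1 1 1) h
  simp [Matrix.SpecialLinearGroup.coe_mul, Matrix.mul_apply, Fin.sum_univ_two] at e00 e01 e10 e11
  have hd := sl2_det g
  have ht : (g 0 0 + g 1 1) * g 0 0 = 2 := by linear_combination e00 + hd
  have ht0 : g 0 0 + g 1 1 ≠ 0 := fun e => by rw [e, zero_mul] at ht; exact h2 ht.symm
  have hb : g 0 1 = 0 := by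
    have : (g 0 0 + g 1 1) * g 0 1 = 0 := by linear_combination e01
    exact (mul_eq_zero.mp this).resolve_left ht0
  have hc : g 1 0 = 0 := by
    have : (g 0 0 + g 1 1) * g 1 0 = 0 := by linear_combination e10
    exact (mul_eq_zero.mp this).resolve_left ht0
  rw [hb, hc, mul_zero, sub_zero] at hd
  have had : g 0 0 = g 1 1 := by
    have : (g 0 0 + g 1 1) * (g 0 0 - g 1 1) = 0 := by linear_combination e00 - e11
    exact sub_eq_zero.mp ((mul_eq_zero.mp this).resolve_left ht0)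
  rw [← had] at hd
  rcases mul_self_eq_one_iff.mp hd with h | h
  · left
    refine sl2_ext _ _ ?_ ?_ ?_ ?_ <;> simp [h, ← had, hb, hc]
  · right
    refine sl2_ext _ _ ?_ ?_ ?_ ?_ <;> simp [h, ← had, hb, hc]

/-- A square root of `-1` in `SL₂(q)` is conjugate to the Weyl element. -/
theorem exists_conj_W [Fintype F] (h2 : (2 : F) ≠ 0) {g : SL} (h : g * g = sl2Z) :
    ∃ P : SL, g = P * sl2W * P⁻¹ := by
  have e00 := congrArg (fun x : SL => x.1 0 0) h
  have e01 := congrArg (fun x : SL => x.1 0 1) h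
  simp [Matrix.SpecialLinearGroup.coe_mul, Matrix.mul_apply, Fin.sum_univ_two] at e00 e01
  have hd := sl2_det g
  set a := g 0 0 with ha
  set b := g 0 1 with hb
  set c := g 1 0 with hc
  set d := g 1 1 with hdd
  have hd' : d = -a := by
    have : a * (a + d) = 0 := by linear_combination e00 + hd
    rcases mul_eq_zero.mp this with h0 | h0
    · have : b * (a + d) = 0 := by linear_combination e01
      rcases mul_eq_zero.mp this with h1 | h1
      · rw [h0, h1, zero_mul, zero_mul, sub_zero] at hd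
        exact absurd hd zero_ne_one
      · linear_combination h1
    · linear_combination h0
  rw [hd'] at hd
  obtain ⟨x, y, hxy⟩ : ∃ x y : F, -c * x ^ 2 + 2 * a * x * y + b * y ^ 2 = 1 := by
    by_cases hc0 : c = 0
    · have ha0 : a ≠ 0 := by
        intro e
        rw [e, hc0] at hd
        simp at hd
      refine ⟨(1 - b) / (2 * a), 1, ?_⟩
      rw [hc0]
      field_simp
      ring
    · obtain ⟨X, Y, hXY⟩ := FiniteField.exists_root_sum_quadratic (R := F)
        (f := Polynomial.C (-c) * Polynomial.X ^ 2 + Polynomial.C (-1))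
        (g := Polynomial.C (-c⁻¹) * Polynomial.X ^ 2)
        (by
          rw [Polynomial.degree_add_C (by rw [Polynomial.degree_C_mul_X_pow 2 (neg_ne_zero.mpr hc0)]; norm_num)]
          exact Polynomial.degree_C_mul_X_pow 2 (neg_ne_zero.mpr hc0))
        (Polynomial.degree_C_mul_X_pow 2 (neg_ne_zero.mpr (inv_ne_zero hc0)))
        (by
          have : ringChar F ≠ 2 := fun e => h2 (by
            have := ringChar.Nat.cast_ringChar (R := F)
            rw [e] at this
            exact_mod_cast this)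
          exact Nat.odd_iff.mp (FiniteField.odd_card_of_char_ne_two this |> Nat.odd_iff.mpr))
      simp at hXY
      refine ⟨X + a * Y / c, Y, ?_⟩
      field_simp at hXY ⊢
      linear_combination hXY - Y ^ 2 * hd
  let P : SL := ⟨!![x, -(a * x + b * y); y, -(c * x + d * y)], by
    rw [Matrix.det_fin_two_of, hd']
    linear_combination hxy⟩
  refine ⟨P, eq_mul_inv_of_mul_eq ?_⟩
  refine sl2_ext _ _ ?_ ?_ ?_ ?_ <;> rw [sl2_mul_apply, sl2_mul_apply] <;>
    simp [P, ← ha, ← hb, ← hc, ← hdd, hd'] <;>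
    first
      | ring1
      | linear_combination x * hd
      | linear_combination (-x) * hd
      | linear_combination y * hd
      | linear_combination (-y) * hd

/-- Conjugation by `diag(-1, 1)`. -/
def sl2J : SL →* SL where
  toFun g := ⟨!![g 0 0, -g 0 1; -g 1 0, g 1 1], by
    rw [Matrix.det_fin_two_of]; linear_combination sl2_det g⟩
  map_one' := by apply Subtype.ext; ext a b; fin_cases a <;> fin_cases b <;> simp
  map_mul' g h := by
    apply Subtype.ext
    show !![(g * h) 0 0, -(g * h) 0 1; -(g * h) 1 0, (g * h) 1 1] =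
      !![g 0 0, -g 0 1; -g 1 0, g 1 1] * !![h 0 0, -h 0 1; -h 1 0, h 1 1]
    rw [Matrix.mul_fin_two]
    simp only [sl2_mul_apply]
    ext a b
    fin_cases a <;> fin_cases b <;> simp <;> ring1

@[simp] theorem coe_sl2J (g : SL) :
    (sl2J g : Matrix (Fin 2) (Fin 2) F) = !![g 0 0, -g 0 1; -g 1 0, g 1 1] := rfl

theorem sl2J_U (t : F) : sl2J (sl2U t) = sl2U (-t) := by
  apply sl2_ext <;> simp

theorem sl2J_L (t : F) : sl2J (sl2L t) = sl2L (-t) := by
  apply sl2_ext <;> simp

/-- The element `[[1, -1/2], [1, 1/2]]`. -/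
def sl2M (h2 : (2 : F) ≠ 0) : SL :=
  ⟨!![1, -(2 : F)⁻¹; 1, (2 : F)⁻¹], by rw [Matrix.det_fin_two_of]; field_simp; norm_num⟩

/-- The element `[[1, 1/2], [-1, 1/2]]`. -/
def sl2M' (h2 : (2 : F) ≠ 0) : SL :=
  ⟨!![1, (2 : F)⁻¹; -1, (2 : F)⁻¹], by rw [Matrix.det_fin_two_of]; field_simp; norm_num⟩

theorem sl2M_eq (h2 : (2 : F) ≠ 0) : sl2M h2 * sl2J (sl2M h2)⁻¹ = sl2Z * sl2W := by
  rw [map_inv, eq_comm, eq_mul_inv_iff_mul_eq]
  apply sl2_ext <;> rw [sl2_mul_apply] <;> rw [coe_sl2J] <;>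
    simp [Matrix.SpecialLinearGroup.coe_mul, Matrix.mul_apply, Fin.sum_univ_two, sl2M]

theorem sl2M'_eq (h2 : (2 : F) ≠ 0) : sl2M' h2 * sl2J (sl2M' h2)⁻¹ = sl2W := by
  rw [map_inv, eq_comm, eq_mul_inv_iff_mul_eq]
  apply sl2_ext <;> rw [sl2_mul_apply] <;> rw [coe_sl2J] <;>
    simp [Matrix.SpecialLinearGroup.coe_mul, Matrix.mul_apply, Fin.sum_univ_two, sl2M']

end Cfsg.Agent.Chev.G2Odd
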